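import Mathlib

set_option autoImplicit false
universe u

namespace Groth.Agent.Lib.Helper5.Roberts
open MvPolynomial

variable {k : Type u} [Field k]

theorem deriv_sum_apply {ι R A M : Type*} [CommSemiring R] [CommSemiring A] [Algebra R A]
    [AddCommMonoid M] [Module A M] [Module R M] (s : Finset ι) (D : ι → Derivation R A M) (a : A) :
    (∑ i ∈ s, D i) a = ∑ i ∈ s, D i a := by
  classical
  induction s using Finset.induction_on with
  | empty => simp
  | insert i s hi ih => rw [Finset.sum_insert hi, Finset.sum_insert hi, Derivation.add_apply, ih]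

theorem mkDerivation_eq_sum {n : ℕ} (g : Fin n → MvPolynomial (Fin n) k) (f : MvPolynomial (Fin n) k) :
    MvPolynomial.mkDerivation k g f = ∑ i, g i * MvPolynomial.pderiv i f := by
  have h : MvPolynomial.mkDerivation k g = ∑ i, g i • (MvPolynomial.pderiv i : Derivation k _ _) := by
    apply MvPolynomial.derivation_ext
    intro j
    classical
    rw [MvPolynomial.mkDerivation_X, deriv_sum_apply]
    simp only [Derivation.coe_smul, Pi.smul_apply, MvPolynomial.pderiv_X, smul_eq_mul]
    rw [Finset.sum_eq_single j]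
    · simp
    · intro i _ hij
      simp [Pi.single_apply, hij]
    · simp
  rw [h, deriv_sum_apply]
  rfl

/-- coefficient extraction for `monomial s 1 * pderiv i f` -/
theorem coeff_mono_mul_pderiv {n : ℕ} (s e : Fin n →₀ ℕ) (i : Fin n) (f : MvPolynomial (Fin n) k) :
    coeff e (monomial s (1 : k) * pderiv i f) =
      if s ≤ e then coeff (e - s + Finsupp.single i 1) f * ((e - s) i + 1 : ℕ) else 0 := by
  rw [coeff_monomial_mul']
  split_ifs with h
  · rw [one_mul, coeff_pderiv]
    push_cast
    rfl
  · rfl


section Main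

variable [CharZero k]

/-- the generic step: a monomial of `f` with positive exponent at `j` and a "private" shift `s`
contributes a nonzero coefficient to `monomial s * ∂_j f` -/
theorem key_coeff {n : ℕ} (f : MvPolynomial (Fin n) k) (d s : Fin n →₀ ℕ) (j : Fin n)
    (hj : 1 ≤ d j) (hd : coeff d f ≠ 0) :
    coeff (d - Finsupp.single j 1 + s) (monomial s (1 : k) * pderiv j f) ≠ 0 := by
  rw [coeff_mono_mul_pderiv, if_pos le_add_self, add_tsub_cancel_right]
  have h1 : d - Finsupp.single j 1 + Finsupp.single j 1 = d := by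
    apply tsub_add_cancel_of_le
    rw [Finsupp.single_le_iff]
    exact hj
  have h2 : (d - Finsupp.single j 1 : Fin n →₀ ℕ) j + 1 = d j := by
    simp only [Finsupp.tsub_apply, Finsupp.single_eq_same]
    omega
  rw [h1, h2]
  exact mul_ne_zero hd (Nat.cast_ne_zero.mpr (by omega))

theorem coeff_zero_of_not_le {n : ℕ} (f : MvPolynomial (Fin n) k) (e s : Fin n →₀ ℕ) (j : Fin n)
    (h : ¬ s ≤ e) : coeff e (monomial s (1 : k) * pderiv j f) = 0 := by
  rw [coeff_mono_mul_pderiv, if_neg h]

theorem main11217 (m : ℕ) (hm : 2 ≤ m) (n : ℕ) (hn : 1 ≤ n)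
    (f : MvPolynomial (Fin 7) k)
    (hf : MvPolynomial.IsWeightedHomogeneous (![0, 0, 0, 1, 1, 1, 1] : Fin 7 → ℕ) f n)
    (hδ : MvPolynomial.mkDerivation k
      (![0, 0, 0, MvPolynomial.X 0 ^ (m + 1), MvPolynomial.X 1 ^ (m + 1), MvPolynomial.X 2 ^ (m + 1),
        (MvPolynomial.X 0 * MvPolynomial.X 1 * MvPolynomial.X 2) ^ m] :
          Fin 7 → MvPolynomial (Fin 7) k) f = 0) :
    ∀ d ∈ f.support, 0 < d 0 + d 1 + d 2 := by
  intro d hd
  by_contra hpos
  have h0 : d 0 = 0 ∧ d 1 = 0 ∧ d 2 = 0 := by omega
  obtain ⟨h00, h01, h02⟩ := h0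
  have hcoeff : coeff d f ≠ 0 := mem_support_iff.mp hd
  have hw := hf hcoeff
  have hw' : d 3 + d 4 + d 5 + d 6 = n := by
    rw [← hw, Finsupp.weight_apply, Finsupp.sum_fintype _ _ (by intro i; simp),
      Fin.sum_univ_seven]
    simp [h00, h01, h02]
  -- rewrite the derivation
  set s3 : Fin 7 →₀ ℕ := Finsupp.single 0 (m + 1) with hs3
  set s4 : Fin 7 →₀ ℕ := Finsupp.single 1 (m + 1) with hs4
  set s5 : Fin 7 →₀ ℕ := Finsupp.single 2 (m + 1) with hs5
  set s6 : Fin 7 →₀ ℕ := Finsupp.single 0 m + Finsupp.single 1 m + Finsupp.single 2 m with hs6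
  have hX3 : (MvPolynomial.X 0 ^ (m + 1) : MvPolynomial (Fin 7) k) = monomial s3 1 :=
    MvPolynomial.X_pow_eq_monomial
  have hX4 : (MvPolynomial.X 1 ^ (m + 1) : MvPolynomial (Fin 7) k) = monomial s4 1 :=
    MvPolynomial.X_pow_eq_monomial
  have hX5 : (MvPolynomial.X 2 ^ (m + 1) : MvPolynomial (Fin 7) k) = monomial s5 1 :=
    MvPolynomial.X_pow_eq_monomial
  have hX6 : ((MvPolynomial.X 0 * MvPolynomial.X 1 * MvPolynomial.X 2) ^ m :
      MvPolynomial (Fin 7) k) = monomial s6 1 := by
    rw [mul_pow, mul_pow, MvPolynomial.X_pow_eq_monomial, MvPolynomial.X_pow_eq_monomial,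
      MvPolynomial.X_pow_eq_monomial, MvPolynomial.monomial_mul, MvPolynomial.monomial_mul]
    simp [hs6]
  have hsum : monomial s3 (1 : k) * pderiv 3 f + monomial s4 (1 : k) * pderiv 4 f +
      monomial s5 (1 : k) * pderiv 5 f + monomial s6 (1 : k) * pderiv 6 f = 0 := by
    rw [mkDerivation_eq_sum, Fin.sum_univ_seven] at hδ
    simp only [Matrix.cons_val_zero, Matrix.cons_val_one, Matrix.cons_val, zero_mul, zero_add,
      hX3, hX4, hX5, hX6] at hδ
    exact hδ
  -- evaluations of the shifts
  have e3 : ∀ i, s3 i = if i = 0 then m + 1 else 0 := fun i => by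
    rw [hs3, Finsupp.single_apply]; simp [eq_comm]
  have e4 : ∀ i, s4 i = if i = 1 then m + 1 else 0 := fun i => by
    rw [hs4, Finsupp.single_apply]; simp [eq_comm]
  have e5 : ∀ i, s5 i = if i = 2 then m + 1 else 0 := fun i => by
    rw [hs5, Finsupp.single_apply]; simp [eq_comm]
  have e6 : ∀ i, s6 i = (if i = 0 then m else 0) + (if i = 1 then m else 0) +
      (if i = 2 then m else 0) := fun i => by
    rw [hs6]
    simp only [Finsupp.add_apply, Finsupp.single_apply]
    simp [eq_comm]
  have hcases : 1 ≤ d 3 ∨ 1 ≤ d 4 ∨ 1 ≤ d 5 ∨ 1 ≤ d 6 := by omega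
  rcases hcases with h | h | h | h
  · have := congrArg (coeff (d - Finsupp.single 3 1 + s3)) hsum
    rw [coeff_add, coeff_add, coeff_add, coeff_zero,
      coeff_zero_of_not_le f _ s4 4, coeff_zero_of_not_le f _ s5 5,
      coeff_zero_of_not_le f _ s6 6, add_zero, add_zero, add_zero] at this
    · exact key_coeff f d s3 3 h hcoeff this
    · intro hle
      have := hle 1
      simp [e6, e3, h01] at this
      omega
    · intro hle
      have := hle 2
      simp [e5, e3, h02] at this
    · intro hle
      have := hle 1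
      simp [e4, e3, h01] at this
  · have := congrArg (coeff (d - Finsupp.single 4 1 + s4)) hsum
    rw [coeff_add, coeff_add, coeff_add, coeff_zero,
      coeff_zero_of_not_le f _ s3 3, coeff_zero_of_not_le f _ s5 5,
      coeff_zero_of_not_le f _ s6 6, add_zero, add_zero, zero_add] at this
    · exact key_coeff f d s4 4 h hcoeff this
    · intro hle
      have := hle 0
      simp [e6, e4, h00] at this
      omega
    · intro hle
      have := hle 2
      simp [e5, e4, h02] at this
    · intro hle
      have := hle 0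
      simp [e3, e4, h00] at this
  · have := congrArg (coeff (d - Finsupp.single 5 1 + s5)) hsum
    rw [coeff_add, coeff_add, coeff_add, coeff_zero,
      coeff_zero_of_not_le f _ s3 3, coeff_zero_of_not_le f _ s4 4,
      coeff_zero_of_not_le f _ s6 6, add_zero, zero_add, zero_add] at this
    · exact key_coeff f d s5 5 h hcoeff this
    · intro hle
      have := hle 0
      simp [e6, e5, h00] at this
      omega
    · intro hle
      have := hle 1
      simp [e4, e5, h01] at this
    · intro hle
      have := hle 0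
      simp [e3, e5, h00] at this
  · have := congrArg (coeff (d - Finsupp.single 6 1 + s6)) hsum
    rw [coeff_add, coeff_add, coeff_add, coeff_zero,
      coeff_zero_of_not_le f _ s3 3, coeff_zero_of_not_le f _ s4 4,
      coeff_zero_of_not_le f _ s5 5, zero_add, zero_add, zero_add] at this
    · exact key_coeff f d s6 6 h hcoeff this
    · intro hle
      have := hle 2
      simp [e6, e5, h02] at this
    · intro hle
      have := hle 1
      simp [e6, e4, h01] at this
    · intro hle
      have := hle 0
      simp [e6, e3, h00] at this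

end Main

end Groth.Agent.Lib.Helper5.Roberts
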